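import Cfsg.Agent.Lib.Transfer.ThompsonComplement
import Cfsg.Agent.Lib.Solvable.CoprimeAction
import Cfsg.Agent.Lib.Solvable.SmallOrder

/-!
# Groups with a maximal subgroup of prime power order
-/

set_option autoImplicit false
set_option linter.style.haveILetI false
set_option linter.unusedSectionVars false

open Subgroup
open scoped Pointwise

namespace CfsgLib.MaxCentralizer

universe u

variable {G : Type u} [Group G] [Finite G] {p : ℕ} [Fact p.Prime]

theorem npc_of_pgroup {X : Type u} [Group X] [Finite X] (hX : IsPGroup p X) :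
    Cfsg.HasNormalPComplement p X := by
  obtain ⟨k, hk⟩ := IsPGroup.iff_card.1 hX
  exact CfsgLib.NPC.hasNormalPComplement_iff.2 ⟨⊥, inferInstance, by simp, k, by rw [index_bot, hk]⟩

theorem solvable_of_maximal_pgroup_of_normal (M : Subgroup G) (hM : IsPGroup p M) (hmax : IsCoatom M)
    [M.Normal] : Group.IsSolvable G := by
  refine CfsgLib.Solvable.isSolvable_of_normal M (CfsgLib.Solvable.isSolvable_of_isPGroup hM) ?_
  haveI : Nontrivial (G ⧸ M) := QuotientGroup.nontrivial_iff.2 hmax.1
  obtain ⟨x, hx⟩ := exists_ne (1 : G ⧸ M)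
  have hz : zpowers x = ⊤ := by
    have hle : M ≤ (zpowers x).comap (QuotientGroup.mk' M) := fun m hm => by
      rw [mem_comap, QuotientGroup.mk'_apply, (QuotientGroup.eq_one_iff m).2 hm]; exact one_mem _
    rcases hle.eq_or_lt with e | hlt
    · exfalso
      obtain ⟨g, hg⟩ := QuotientGroup.mk'_surjective M x
      have : g ∈ M := e.ge (show QuotientGroup.mk' M g ∈ zpowers x by rw [hg]; exact mem_zpowers x)
      exact hx (by rw [← hg, QuotientGroup.mk'_apply, (QuotientGroup.eq_one_iff g).2 this])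
    · exact comap_injective (QuotientGroup.mk'_surjective M) (by rw [hmax.2 _ hlt, comap_top])
  refine Group.isSolvable_of_comm fun a b => ?_
  obtain ⟨i, rfl⟩ := mem_zpowers_iff.1 (hz ▸ mem_top a : a ∈ zpowers x)
  obtain ⟨j, rfl⟩ := mem_zpowers_iff.1 (hz ▸ mem_top b : b ∈ zpowers x)
  exact (Commute.zpow_zpow_self x i j).eq

/-- With a maximal Sylow subgroup, a normal `p`-complement forces solvability. -/
theorem solvable_of_npc (P : Sylow p G) (hmax : IsCoatom (P : Subgroup G))
    (hnpc : Cfsg.HasNormalPComplement p G) : Group.IsSolvable G := by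
  obtain ⟨O, hOn, hOcop, k, hOk⟩ := CfsgLib.NPC.hasNormalPComplement_iff.1 hnpc
  have hquot : Group.IsSolvable (G ⧸ O) :=
    CfsgLib.Solvable.isSolvable_of_isPGroup (p := p) (IsPGroup.of_card (n := k) (by rw [← index_eq_card, hOk]))
  refine CfsgLib.Solvable.isSolvable_of_normal O ?_ hquot
  rcases eq_or_ne (Nat.card O) 1 with h1 | h1
  · haveI : Subsingleton O := (Nat.card_eq_one_iff_unique.1 h1).1
    exact Group.isSolvable_of_comm fun a b => Subsingleton.elim _ _
  obtain ⟨q, hq, hqd⟩ := Nat.exists_prime_and_dvd h1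
  haveI : Fact q.Prime := ⟨hq⟩
  obtain ⟨i, hi⟩ := IsPGroup.iff_card.1 P.2
  haveI := P.2.isNilpotent
  obtain ⟨S, hS⟩ := CfsgLib.Solvable.exists_invariant_sylow (A := (P : Subgroup G)) (K := O)
    le_normalizer_of_normal (by rw [hi]; exact hOcop.symm.pow_left i) (Or.inl inferInstance) q
  set S' := (S : Subgroup O).map O.subtype
  have hS'O : S' ≤ O := map_subtype_le _
  have hne : S' ≠ ⊥ := fun h => S.ne_bot_of_dvd_card hqd
    ((map_eq_bot_iff_of_injective _ O.subtype_injective).1 h)
  have hPO : ∀ x ∈ (P : Subgroup G), x ∈ O → x = 1 := by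
    intro x hx hxO
    obtain ⟨j, hj⟩ := P.2 ⟨x, hx⟩
    exact orderOf_eq_one_iff.1 (Nat.eq_one_of_dvd_coprimes (hOcop.pow_right j)
      (orderOf_dvd_natCard (⟨x, hxO⟩ : O) |> fun h => by rwa [← orderOf_coe] at h)
      (orderOf_dvd_of_pow_eq_one (congrArg Subtype.val hj)))
  have htop : S' ⊔ (P : Subgroup G) = ⊤ := by
    refine hmax.2 _ (lt_of_le_of_ne le_sup_right fun e => hne (eq_bot_iff.2 fun x hx => ?_))
    exact mem_bot.2 (hPO x (e.ge (mem_sup_left hx)) (hS'O hx))
  have hOS : O ≤ S' := by
    intro x hx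
    have h2 : x ∈ ((P : Subgroup G) : Set G) * (S' : Set G) := by
      rw [← coe_mul_of_left_le_normalizer_right _ _ hS, sup_comm, htop]
      exact mem_top x
    obtain ⟨y, hy, s, hs, rfl⟩ := Set.mem_mul.1 h2
    have hy1 : y = 1 := hPO y hy (by simpa using mul_mem hx (inv_mem (hS'O hs)))
    rwa [hy1, one_mul]
  exact CfsgLib.Solvable.isSolvable_of_isPGroup ((S.2.map O.subtype).to_le hOS)

/-- A group with a maximal abelian Sylow subgroup is solvable. -/
theorem solvable_of_maximal_abelian_sylow (P : Sylow p G) (hmax : IsCoatom (P : Subgroup G))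
    (hab : ∀ a ∈ (P : Subgroup G), ∀ b ∈ (P : Subgroup G), a * b = b * a) : Group.IsSolvable G := by
  by_cases hn : (P : Subgroup G).Normal
  · exact solvable_of_maximal_pgroup_of_normal _ P.2 hmax
  have hN : normalizer ((P : Subgroup G) : Set G) = (P : Subgroup G) := by
    rcases (le_normalizer (H := (P : Subgroup G))).eq_or_lt with e | hlt
    · exact e.symm
    · exact absurd (normalizer_eq_top_iff.1 (hmax.2 _ hlt)) hn
  have hNC : normalizer ((P : Subgroup G) : Set G) ≤ centralizer ((P : Subgroup G) : Set G) := by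
    rw [hN]
    exact fun a ha => mem_centralizer_iff.2 fun b hb => hab b hb a ha
  exact solvable_of_npc P hmax
    ⟨P, _, inferInstance, MonoidHom.ker_transferSylow_isComplement' P hNC⟩

theorem solvable_of_maximal_pgroup_aux (p : ℕ) [Fact p.Prime] (hp2 : p ≠ 2) :
    ∀ (n : ℕ) (G : Type u) [Group G] [Finite G], Nat.card G = n →
      ∀ M : Subgroup G, IsPGroup p M → IsCoatom M → Group.IsSolvable G := by
  intro n
  induction n using Nat.strong_induction_on with
  | _ n ih =>
  intro G _ _ hn M hM hmax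
  by_cases hMn : M.Normal
  · exact solvable_of_maximal_pgroup_of_normal M hM hmax
  by_cases hR : ∃ R : Subgroup G, R.Normal ∧ IsPGroup p R ∧ R ≠ ⊥
  · obtain ⟨R, hRn, hRp, hRne⟩ := hR
    have hRM : R ≤ M := by
      by_contra hle
      have htop : M ⊔ R = ⊤ := hmax.2 _ (lt_of_le_of_ne le_sup_left fun e => hle (e.symm.le.trans' le_sup_right))
      have hG : IsPGroup p G := (htop ▸ hM.to_sup_of_normal_right hRp :
        IsPGroup p (⊤ : Subgroup G)).of_equiv topEquiv
      haveI := hG.isNilpotent
      exact hMn (NormalizerCondition.normal_of_coatom M Group.normalizerCondition_of_isNilpotent hmax)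
    haveI := hRn
    refine CfsgLib.Solvable.isSolvable_of_normal R (CfsgLib.Solvable.isSolvable_of_isPGroup hRp) ?_
    have hlt : Nat.card (G ⧸ R) < n := by
      rw [← hn, ← card_mul_index R, ← index_eq_card]
      exact lt_mul_left (Nat.pos_of_ne_zero index_ne_zero_of_finite) ((one_lt_card_iff_ne_bot R).2 hRne)
    refine ih _ hlt (G ⧸ R) rfl (M.map (QuotientGroup.mk' R)) (hM.map _) ?_
    refine ⟨fun e => hmax.1 ?_, fun K hK => ?_⟩
    · have := congrArg (comap (QuotientGroup.mk' R)) e
      rwa [comap_map_eq, QuotientGroup.ker_mk', sup_eq_left.2 hRM, comap_top] at this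
    · have hle : M < K.comap (QuotientGroup.mk' R) := by
        refine lt_of_le_of_ne (map_le_iff_le_comap.1 hK.le) fun e => hK.ne ?_
        rw [e, map_comap_eq_self_of_surjective (QuotientGroup.mk'_surjective R)]
      exact comap_injective (QuotientGroup.mk'_surjective R) (by rw [hmax.2 _ hle, comap_top])
  push Not at hR
  have hMne : M ≠ ⊥ := fun e => hMn (e ▸ inferInstance)
  -- `M` is a Sylow subgroup
  obtain ⟨P, hMP⟩ := hM.exists_le_sylow
  have hPtop : (P : Subgroup G) ≠ ⊤ := by
    intro e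
    have h1 := hR ⊤ inferInstance (e ▸ P.2)
    exact hMne (eq_bot_iff.2 (le_top.trans h1.le))
  have hPM : (P : Subgroup G) = M := by
    rcases hMP.eq_or_lt with e | hlt
    · exact e.symm
    · exact absurd (hmax.2 _ hlt) hPtop
  have hloc : CfsgLib.ThompsonComplement.LocalHyp p (P : Subgroup G) := by
    have hP : ∀ X : Subgroup G, (P : Subgroup G) ≤ X → X ≠ ⊤ → Cfsg.HasNormalPComplement p X := by
      intro X hX hX'
      rcases (hPM ▸ hX : M ≤ X).eq_or_lt with e | hlt
      · exact npc_of_pgroup (e ▸ hM)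
      · exact absurd (hmax.2 _ hlt) hX'
    have hPne : (P : Subgroup G) ≠ ⊥ := hPM.symm ▸ hMne
    refine ⟨hP _ (le_normalizer.trans (CfsgLib.PLocal.normalizer_le_normalizer_thompsonSubgroupOf _))
      fun e => ?_, hP _ (fun g hg => mem_centralizer_iff.2 fun z hz =>
        (mem_centralizer_iff.1 hz.2 g hg).symm) fun e => ?_⟩
    · exact CfsgLib.ThompsonComplement.thompsonSubgroupOf_ne_bot P.2 hPne
        (hR _ (normalizer_eq_top_iff.1 e) (P.2.to_le (CfsgLib.PLocal.thompsonSubgroupOf_le p _)))
    · set Z := (P : Subgroup G) ⊓ centralizer ((P : Subgroup G) : Set G)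
      have hZn : Z.Normal := by
        rw [← normalizer_eq_top_iff, eq_top_iff, ← e]
        exact centralizer_le_normalizer _
      exact CfsgLib.ThompsonComplement.center_ne_bot P.2 hPne (hR Z hZn (P.2.to_le inf_le_left))
  exact solvable_of_npc P (hPM.symm ▸ hmax)
    (CfsgLib.ThompsonComplement.npc_of_localHyp_aux p hp2 _ G rfl P hloc)

/-- Thompson: a maximal subgroup of odd prime power order forces solvability. -/
theorem solvable_of_maximal_pgroup (hp2 : p ≠ 2) (M : Subgroup G) (hM : IsPGroup p M)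
    (hmax : IsCoatom M) : Group.IsSolvable G :=
  solvable_of_maximal_pgroup_aux p hp2 _ G rfl M hM hmax

end CfsgLib.MaxCentralizer
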