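import Mathlib
import Cfsg.Agent.Lib.PNilpotent.Basic
import Cfsg.Agent.Lib.PNilpotent.Irreducible
import Cfsg.Agent.Lib.NilpPerm.Bound
import Cfsg.Agent.Lib.Fusion.GlaubermanThompson

/-!
Normal subgroups `N` all of whose non-central elements have maximal centralisers in the whole group:
such a subgroup contains a nilpotent normal subgroup of the group which is not central in `N`.
-/

namespace CfsgLib.MaxCentralizer

open Subgroup

universe u

variable {G : Type u} [Group G] [Finite G] {N : Subgroup G}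

/-- Every element of `N` outside the centre of `N` has a maximal centraliser in `G`. -/
def Hyp (N : Subgroup G) : Prop :=
  ∀ x ∈ N, x ∉ centralizer (N : Set G) → IsCoatom (centralizer ({x} : Set G))

theorem mem_centralizer_iff_commute {S : Set G} {g : G} : g ∈ centralizer S ↔ ∀ s ∈ S, Commute g s :=
  ⟨fun h s hs => (mem_centralizer_iff.mp h s hs).symm, fun h => mem_centralizer_iff.mpr fun s hs => (h s hs).symm⟩

theorem mem_cent_single {x g : G} : g ∈ centralizer ({x} : Set G) ↔ Commute g x := by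
  rw [mem_centralizer_singleton_iff]; rfl

omit [Finite G] in
theorem eq_of_le_centralizer (hN : Hyp N) {x y : G} (hx : x ∈ N) (hxc : x ∉ centralizer (N : Set G))
    (hy : y ∈ N) (hyc : y ∉ centralizer (N : Set G))
    (hle : centralizer ({x} : Set G) ≤ centralizer ({y} : Set G)) :
    centralizer ({x} : Set G) = centralizer ({y} : Set G) :=
  (((hN x hx hxc).le_iff.mp hle).resolve_left (hN y hy hyc).1).symm

theorem notMem_of_pow_notMem {x : G} {a : ℕ} (h : x ^ a ∉ centralizer (N : Set G)) :
    x ∉ centralizer (N : Set G) := fun hx => h (pow_mem hx a)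

/-- Commuting non-central elements of coprime orders have the same centraliser. -/
theorem centralizer_eq_of_coprime (hN : Hyp N) {x y : G} (hx : x ∈ N) (hy : y ∈ N) (hxy : Commute x y)
    (hcop : (orderOf x).Coprime (orderOf y)) (hxc : x ∉ centralizer (N : Set G))
    (hyc : y ∉ centralizer (N : Set G)) : centralizer ({x} : Set G) = centralizer ({y} : Set G) := by
  obtain ⟨a, ha⟩ := exists_pow_eq_self_of_coprime (x := x) (n := orderOf y) hcop.symm
  obtain ⟨b, hb⟩ := exists_pow_eq_self_of_coprime (x := y) (n := orderOf x) hcop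
  have hxa : (x * y) ^ (orderOf y * a) = x := by
    rw [pow_mul, hxy.mul_pow, pow_orderOf_eq_one, mul_one, ha]
  have hyb : (x * y) ^ (orderOf x * b) = y := by
    rw [pow_mul, hxy.mul_pow, pow_orderOf_eq_one, one_mul, hb]
  have hc : x * y ∉ centralizer (N : Set G) := fun h => hxc (hxa ▸ pow_mem h _)
  have h1 : centralizer ({x * y} : Set G) ≤ centralizer ({x} : Set G) := fun g hg => by
    rw [mem_cent_single] at hg ⊢
    rw [← hxa]; exact hg.pow_right _
  have h2 : centralizer ({x * y} : Set G) ≤ centralizer ({y} : Set G) := fun g hg => by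
    rw [mem_cent_single] at hg ⊢
    rw [← hyb]; exact hg.pow_right _
  rw [← eq_of_le_centralizer hN (mul_mem hx hy) hc hx hxc h1,
    ← eq_of_le_centralizer hN (mul_mem hx hy) hc hy hyc h2]

/-- A non-central element has a non-central part of prime power order. -/
theorem exists_primePow_part {g : G} (hg : g ∉ centralizer (N : Set G)) :
    ∃ q a k : ℕ, q.Prime ∧ g ^ a ∉ centralizer (N : Set G) ∧ orderOf (g ^ a) = q ^ k := by
  induction hn : orderOf g using Nat.strong_induction_on generalizing g with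
  | _ n ih =>
    subst hn
    have h1 : orderOf g ≠ 1 := fun h => hg (by rw [orderOf_eq_one_iff.mp h]; exact one_mem _)
    obtain ⟨q, hq, hqd⟩ := Nat.exists_prime_and_dvd h1
    haveI : Fact q.Prime := ⟨hq⟩
    obtain ⟨a, b, hab, ⟨k, hk⟩, hcop⟩ := CfsgLib.PNilpotent.exists_pPart_decomp (p := q) g
    by_cases ha : g ^ a ∈ centralizer (N : Set G)
    · have hb : g ^ b ∉ centralizer (N : Set G) := fun hb => hg (hab ▸ mul_mem ha hb)
      have hlt : orderOf (g ^ b) < orderOf g := by
        refine lt_of_le_of_ne (Nat.le_of_dvd (orderOf_pos g) (orderOf_pow_dvd b)) fun he => ?_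
        rw [he] at hcop
        exact (hq.coprime_iff_not_dvd.mp hcop.symm) hqd
      obtain ⟨q', a', k', hq', ha', hk'⟩ := ih _ hlt hb rfl
      exact ⟨q', b * a', k', hq', by rwa [pow_mul], by rwa [pow_mul]⟩
    · exact ⟨q, a, k, hq, ha, hk⟩

/-- In the centraliser of a non-central `p`-element the `p'`-elements are central. -/
theorem commute_of_pPrime (hN : Hyp N) {p : ℕ} [Fact p.Prime] {x : G} (hx : x ∈ N)
    (hxc : x ∉ centralizer (N : Set G)) {k : ℕ} (hxo : orderOf x = p ^ k) {y z : G} (hy : y ∈ N) (hz : z ∈ N)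
    (hxy : Commute x y) (hyo : (orderOf y).Coprime p) (hxz : Commute x z) : Commute y z := by
  by_cases hyc : y ∈ centralizer (N : Set G)
  · exact mem_centralizer_iff_commute.mp hyc z hz
  · have h := centralizer_eq_of_coprime hN hx hy hxy (hxo ▸ (hyo.symm.pow_left k)) hxc hyc
    exact (mem_cent_single.mp (h ▸ mem_cent_single.mpr hxz.symm)).symm

/-- The centraliser in `N` of a non-central `p`-element is nilpotent. -/
theorem isNilpotent_inf_centralizer (hN : Hyp N) {p : ℕ} [Fact p.Prime] {x : G} (hx : x ∈ N)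
    (hxc : x ∉ centralizer (N : Set G)) {k : ℕ} (hxo : orderOf x = p ^ k) :
    Group.IsNilpotent ↥(N ⊓ centralizer ({x} : Set G)) := by
  set X := N ⊓ centralizer ({x} : Set G)
  refine Group.of_quotient_center_nilpotent ?_
  have hp : IsPGroup p (X ⧸ center X) := by
    intro q
    induction q using QuotientGroup.induction_on with
    | _ g =>
      obtain ⟨a, b, hab, ⟨j, hj⟩, hcop⟩ := CfsgLib.PNilpotent.exists_pPart_decomp (p := p) g
      refine ⟨j, ?_⟩
      have hb : g ^ b ∈ center X := by
        rw [mem_center_iff]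
        intro z
        refine Subtype.ext ?_
        have h1 : Commute ((g ^ b : X) : G) (z : G) := commute_of_pPrime hN hx hxc hxo (g ^ b).2.1 z.2.1
          (mem_cent_single.mp (g ^ b).2.2).symm (by rw [Subgroup.orderOf_coe]; exact hcop)
          (mem_cent_single.mp z.2.2).symm
        exact h1.symm
      rw [← QuotientGroup.mk_pow, ← hab, (Commute.pow_pow_self g a b).mul_pow, ← hj, pow_orderOf_eq_one, one_mul,
        QuotientGroup.eq_one_iff]
      exact pow_mem hb _
  exact hp.isNilpotent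

theorem hasNormalPComplement_of_isNilpotent {H : Type*} [Group H] [Finite H] (p : ℕ) [Fact p.Prime]
    (h : Group.IsNilpotent H) : Cfsg.HasNormalPComplement p H := by
  refine CfsgLib.NPC.frobenius_criterion fun Q hQ g _ hg => mem_centralizer_iff.mpr fun s hs => ?_
  obtain ⟨j, hj⟩ := hQ ⟨s, hs⟩
  refine (CfsgLib.NilpPerm.commute_of_coprime_order (a := s) (b := g) ?_).eq
  exact (hg.symm.pow_left j).coprime_dvd_left (orderOf_dvd_of_pow_eq_one (congrArg Subtype.val hj))

/-- A group in which, for some prime `p`, all `p'`-elements are central is nilpotent. -/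
theorem isNilpotent_of_pPrime_central {p : ℕ} [Fact p.Prime]
    (h : ∀ g ∈ N, (orderOf g).Coprime p → g ∈ centralizer (N : Set G)) : Group.IsNilpotent N := by
  refine Group.of_quotient_center_nilpotent ?_
  have hp : IsPGroup p (N ⧸ center N) := by
    intro q
    induction q using QuotientGroup.induction_on with
    | _ g =>
      obtain ⟨a, b, hab, ⟨j, hj⟩, hcop⟩ := CfsgLib.PNilpotent.exists_pPart_decomp (p := p) g
      refine ⟨j, ?_⟩
      have hb : g ^ b ∈ center N := by
        rw [mem_center_iff]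
        intro z
        refine Subtype.ext ?_
        exact (mem_centralizer_iff_commute.mp (h _ (g ^ b).2 (by rw [Subgroup.orderOf_coe]; exact hcop)) _ z.2).symm
      rw [← QuotientGroup.mk_pow, ← hab, (Commute.pow_pow_self g a b).mul_pow, ← hj, pow_orderOf_eq_one, one_mul,
        QuotientGroup.eq_one_iff]
      exact pow_mem hb _
  exact hp.isNilpotent

/-- The `p`-part of the nilpotent centraliser of a non-central `p`-element, with the properties used below. -/
theorem exists_odd_prime_part (hnil : ¬ Group.IsNilpotent N) :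
    ∃ p : ℕ, p.Prime ∧ p ≠ 2 ∧ ∃ x ∈ N, x ∉ centralizer (N : Set G) ∧ ∃ k, orderOf x = p ^ k := by
  haveI : Fact (Nat.Prime 2) := ⟨Nat.prime_two⟩
  by_contra hno
  push Not at hno
  refine hnil (isNilpotent_of_pPrime_central (p := 2) fun g hg hgo => ?_)
  by_contra hgc
  obtain ⟨q, a, k, hq, ha, hk⟩ := exists_primePow_part (N := N) hgc
  have hq2 : q ≠ 2 := by
    rintro rfl
    have h1 : orderOf (g ^ a) ∣ Nat.gcd (orderOf g) (2 ^ k) := Nat.dvd_gcd (orderOf_pow_dvd a) (hk ▸ dvd_rfl)
    rw [hgo.pow_right k] at h1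
    exact ha (by rw [orderOf_eq_one_iff.mp (Nat.dvd_one.mp h1)]; exact one_mem _)
  exact hno q hq hq2 _ (pow_mem hg a) ha k hk

/-- If `N` is not abelian, some nilpotent normal subgroup of `G` inside `N` is not central in `N`. -/
theorem exists_nilpotent_normal : ∀ (n : ℕ) (N : Subgroup G), N.Normal → Nat.card N = n → Hyp N →
    ¬ N ≤ centralizer (N : Set G) →
    ∃ L : Subgroup G, L ≤ N ∧ L.Normal ∧ Group.IsNilpotent L ∧ ¬ L ≤ centralizer (N : Set G) := by
  intro n
  induction n using Nat.strong_induction_on with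
  | _ n ih =>
    intro N hNn hcard hN hna
    by_cases hnil : Group.IsNilpotent N
    · exact ⟨N, le_rfl, hNn, hnil, hna⟩
    by_contra hno
    push Not at hno
    obtain ⟨p, hp, hp2, x, hx, hxc, k, hxo⟩ := exists_odd_prime_part hnil
    haveI : Fact p.Prime := ⟨hp⟩
    set M := centralizer ({x} : Set G) with hM
    have hMc : IsCoatom M := hN x hx hxc
    set X := N ⊓ M with hX
    have hXnil : Group.IsNilpotent X := isNilpotent_inf_centralizer hN hx hxc hxo
    -- the `p`-part of `X`
    let P₀ : Subgroup G :=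
      { carrier := {y | y ∈ X ∧ ∃ j, orderOf y ∣ p ^ j}
        one_mem' := ⟨one_mem _, 0, by simp⟩
        mul_mem' := by
          rintro a b ⟨ha, i, hi⟩ ⟨hb, j, hj⟩
          refine ⟨mul_mem ha hb, ?_⟩
          obtain ⟨Q⟩ := (inferInstance : Nonempty (Sylow p X))
          haveI : (Q : Subgroup X).Normal :=
            ((Group.isNilpotent_of_finite_tfae (G := X)).out 0 3 rfl rfl).mp hXnil p ‹_› Q
          have hmem : ∀ (c : G) (hc : c ∈ X) (l : ℕ), orderOf c ∣ p ^ l → (⟨c, hc⟩ : X) ∈ (Q : Subgroup X) := by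
            intro c hc l hl
            obtain ⟨R, hR⟩ := (IsPGroup.of_card (p := p) (n := ((Nat.dvd_prime_pow hp).mp hl).choose) (by
              rw [Nat.card_zpowers, ← ((Nat.dvd_prime_pow hp).mp hl).choose_spec.2, ← Subgroup.orderOf_coe]) :
              IsPGroup p (zpowers (⟨c, hc⟩ : X))).exists_le_sylow
            haveI := Sylow.unique_of_normal Q inferInstance
            exact (Subsingleton.elim R Q : R = Q) ▸ hR (mem_zpowers _)
          obtain ⟨l, hl⟩ := Q.isPGroup' ⟨_, mul_mem (hmem a ha i hi) (hmem b hb j hj)⟩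
          exact ⟨l, orderOf_dvd_of_pow_eq_one (congrArg (fun w : (Q : Subgroup X) => ((w : X) : G)) hl)⟩
        inv_mem' := fun {a} ⟨ha, i, hi⟩ => ⟨inv_mem ha, i, by rwa [orderOf_inv]⟩ }
    have hP₀ : ∀ y, y ∈ P₀ ↔ y ∈ X ∧ ∃ j, orderOf y ∣ p ^ j := fun y => Iff.rfl
    have hxX : x ∈ X := ⟨hx, mem_cent_single.mpr (Commute.refl x)⟩
    have hxP : x ∈ P₀ := ⟨hxX, k, hxo.dvd⟩
    have hP₀p : IsPGroup p P₀ := fun y => by
      obtain ⟨j, hj⟩ := y.2.2
      exact ⟨j, Subtype.ext (orderOf_dvd_iff_pow_eq_one.mp hj)⟩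
    have hP₀X : P₀ ≤ X := fun y hy => hy.1
    have hMnorm : ∀ g ∈ M, P₀.map (MulAut.conj g).toMonoidHom = P₀ := by
      intro g hg
      refine eq_of_le_of_card_ge ?_ (card_map_of_injective (MulAut.conj g).injective).ge
      rintro _ ⟨y, ⟨⟨hyN, hyM⟩, j, hj⟩, rfl⟩
      refine ⟨mem_inf.mpr ⟨hNn.conj_mem _ hyN g, (M.mul_mem (M.mul_mem hg hyM) (M.inv_mem hg) : g * y * g⁻¹ ∈ M)⟩, j, ?_⟩
      rwa [MulEquiv.coe_toMonoidHom, MulEquiv.orderOf_eq]
    have hnot : ∀ W : Subgroup G, W ≤ P₀ → x ∈ W → (∀ g ∈ M, W.map (MulAut.conj g).toMonoidHom = W) →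
        normalizer (W : Set G) = M := by
      intro W hW hxW hMW
      refine (hMc.le_iff.mp fun g hg => CfsgLib.ZJCenter.mem_normalizer_of_conj_eq (hMW g hg)).resolve_left fun htop => ?_
      have hWn : W.Normal := normalizer_eq_top_iff.mp htop
      exact hxc (hno W (hW.trans (hP₀X.trans inf_le_left)) hWn (hP₀p.to_le hW).isNilpotent hxW)
    have hNP : normalizer (P₀ : Set G) = M := hnot P₀ le_rfl hxP hMnorm
    -- `P₀` is a Sylow subgroup of `N`
    have hP₀N : P₀ ≤ N := hP₀X.trans inf_le_left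
    obtain ⟨P, hP⟩ := (hP₀p.comap_of_injective N.subtype N.subtype_injective).exists_le_sylow
    have hPeq : (P : Subgroup N).map N.subtype = P₀ := by
      refine le_antisymm ?_ (fun y hy => ⟨⟨y, hP₀N hy⟩, hP hy, rfl⟩)
      by_contra hlt
      set Q := (P : Subgroup N).map N.subtype with hQ
      have hQp : IsPGroup p Q := P.isPGroup'.map _
      have hPQ : P₀ ≤ Q := fun y hy => ⟨⟨y, hP₀N hy⟩, hP hy, rfl⟩
      have hne : P₀.subgroupOf Q ≠ ⊤ := fun h => hlt (subgroupOf_eq_top.mp h)
      haveI := hQp.isNilpotent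
      obtain ⟨y, hy, hyn⟩ := SetLike.exists_of_lt (Group.normalizerCondition_of_isNilpotent _ hne.lt_top)
      refine hyn ?_
      have hyM : (y : G) ∈ M := by
        rw [← hNP]
        refine CfsgLib.ZJCenter.mem_normalizer_of_conj_eq
          (eq_of_le_of_card_ge ?_ (card_map_of_injective (MulAut.conj (y : G)).injective).ge)
        rintro _ ⟨u, hu, rfl⟩
        exact (mem_normalizer_iff.mp hy ⟨u, hPQ hu⟩).mp hu
      obtain ⟨j, hj⟩ := hQp y
      exact ⟨⟨map_subtype_le _ y.2, hyM⟩, j, orderOf_dvd_of_pow_eq_one (congrArg Subtype.val hj)⟩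
    -- the centre of the Thompson subgroup
    set W := CfsgLib.ZJCenter.zj 0 P₀ with hW
    have hxW : x ∈ W := by
      have hcomm : ∀ y ∈ P₀, y * x = x * y := fun y hy => (mem_cent_single.mp hy.1.2).eq
      obtain ⟨A, hA⟩ := CfsgLib.PLoc.exists_isMaxAb 0 P₀
      exact ⟨CfsgLib.PLoc.le_joinMaxAb hA (CfsgLib.PLoc.mem_of_commute hA hxP (pow_zero x) fun a ha => hcomm a (hA.le ha)),
        mem_centralizer_iff.mpr fun y hy => hcomm y (CfsgLib.PLoc.joinMaxAb_le 0 P₀ hy)⟩
    have hNW : normalizer (W : Set G) = M := by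
      refine hnot W (CfsgLib.ZJCenter.zj_le 0 P₀) hxW fun g hg => ?_
      rw [CfsgLib.ZJCenter.zj_map (MulAut.conj g).injective, hMnorm g hg]
    have hzj : (CfsgLib.ZJCenter.zj 0 (P : Subgroup N)).map N.subtype = W := by
      rw [CfsgLib.ZJCenter.zj_map N.subtype_injective, hPeq]
    have hnormP : Subgroup.normalizer ((CfsgLib.ZJCenter.zj 0 (P : Subgroup N) : Subgroup N) : Set N) ≤ X.subgroupOf N := by
      intro g hg
      refine ⟨g.2, ?_⟩
      rw [← hNW]
      refine CfsgLib.ZJCenter.mem_normalizer_of_conj_eq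
        (eq_of_le_of_card_ge ?_ (card_map_of_injective (MulAut.conj (g : G)).injective).ge)
      rw [← hzj]
      rintro _ ⟨_, ⟨u, hu, rfl⟩, rfl⟩
      exact ⟨g * u * g⁻¹, (mem_normalizer_iff.mp hg u).mp hu, rfl⟩
    have hXN : Cfsg.HasNormalPComplement p (X.subgroupOf N) :=
      CfsgLib.NPC.hasNormalPComplement_of_equiv (Subgroup.subgroupOfEquivOfLe inf_le_left).symm
        (hasNormalPComplement_of_isNilpotent p hXnil)
    obtain ⟨R₀, hR₀⟩ := CfsgLib.NPC.hasNormalPComplement_iff.mp
      (CfsgLib.GlaubermanThompson.hasNormalPComplement_of_normalizer_zj hp2 (Or.inl rfl) P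
        (CfsgLib.NPC.hasNormalPComplement_of_le hnormP hXN))
    set R := R₀.map N.subtype with hR
    have hRmem : ∀ g : G, g ∈ R ↔ g ∈ N ∧ (orderOf g).Coprime p := by
      intro g
      constructor
      · rintro ⟨u, hu, rfl⟩
        exact ⟨u.2, by rw [coe_subtype, Subgroup.orderOf_coe]; exact (CfsgLib.NPC.mem_iff_coprime hR₀).mp hu⟩
      · rintro ⟨hg, hgo⟩
        exact ⟨⟨g, hg⟩, (CfsgLib.NPC.mem_iff_coprime hR₀).mpr (by rwa [← Subgroup.orderOf_coe]), rfl⟩
    have hRn : R.Normal := ⟨fun u hu g => by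
      rw [hRmem] at hu ⊢
      refine ⟨hNn.conj_mem _ hu.1 g, ?_⟩
      have := (MulAut.conj g).orderOf_eq u
      rw [MulAut.conj_apply] at this
      rw [this]; exact hu.2⟩
    have hRN : R ≤ N := map_subtype_le _
    have hxR : x ∉ R := fun h => by
      have h1 := ((hRmem x).mp h).2
      have h2 : orderOf x ∣ Nat.gcd (orderOf x) (p ^ k) := Nat.dvd_gcd dvd_rfl hxo.dvd
      rw [h1.pow_right k] at h2
      exact hxc (by rw [orderOf_eq_one_iff.mp (Nat.dvd_one.mp h2)]; exact one_mem _)
    have hRc : ¬ R ≤ centralizer (N : Set G) := fun h =>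
      hnil (isNilpotent_of_pPrime_central (p := p) fun g hg hgo => h ((hRmem g).mpr ⟨hg, hgo⟩))
    have hlt : Nat.card R < n := by
      rw [← hcard]
      refine lt_of_le_of_ne (card_le_of_le hRN) fun h => hxR ?_
      rw [eq_of_le_of_card_ge hRN h.ge]
      exact hx
    have hanti : centralizer (N : Set G) ≤ centralizer (R : Set G) := centralizer_le hRN
    have hHyp : Hyp R := fun u hu huc => hN u (hRN hu) fun h => huc (hanti h)
    by_cases hRab : R ≤ centralizer (R : Set G)
    · haveI : IsMulCommutative R := le_centralizer_iff_isMulCommutative.mp hRab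
      exact hRc (hno R hRN hRn (Group.of_quotient_center_nilpotent (by
        haveI : Subsingleton (R ⧸ center R) := QuotientGroup.subsingleton_iff.mpr (center_eq_top_iff.mpr inferInstance)
        infer_instance)))
    · obtain ⟨L, hL1, hL2, hL3, hL4⟩ := ih _ hlt R hRn rfl hHyp hRab
      exact hL4 ((hno L (hL1.trans hRN) hL2 hL3).trans hanti)

end CfsgLib.MaxCentralizer
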