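import Mathlib
import Cfsg.Agent.Lib.MaxCentralizer.Solvable
import Cfsg.Agent.Lib.Solvable.CoprimeGeneration
import Cfsg.Agent.Lib.PGroup.Basic

/-!
The structure of a normal subgroup whose non-central elements have maximal centralisers: modulo its centre it is
elementary abelian, or a Frobenius group with elementary abelian kernel and complement of prime order.
-/

namespace CfsgLib.MaxCentralizer

open Subgroup
open scoped commutatorElement

universe u

variable {G : Type u} [Group G] [Finite G] {N : Subgroup G}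

/-- The centre of `N`, in `G`. -/
def ctr (N : Subgroup G) : Subgroup G := N ⊓ centralizer (N : Set G)

instance ctr_normal [N.Normal] : (ctr N).Normal := Subgroup.normal_inf_normal _ _

omit [Finite G] in
theorem ctr_le : ctr N ≤ N := inf_le_left

omit [Finite G] in
theorem notMem_ctr {g : G} (hg : g ∈ N) : g ∉ ctr N ↔ g ∉ centralizer (N : Set G) :=
  not_congr ⟨fun h => h.2, fun h => ⟨hg, h⟩⟩

theorem commute_ctr {g z : G} (hg : g ∈ N) (hz : z ∈ ctr N) : Commute z g :=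
  mem_centralizer_iff_commute.mp hz.2 g hg

theorem mem_normalizer_of_conj_mem {W : Subgroup G} {g : G} (h : ∀ w ∈ W, g * w * g⁻¹ ∈ W) :
    g ∈ Subgroup.normalizer (W : Set G) := by
  refine CfsgLib.ZJCenter.mem_normalizer_of_conj_eq
    (eq_of_le_of_card_ge ?_ (card_map_of_injective (MulAut.conj g).injective).ge)
  rintro _ ⟨w, hw, rfl⟩
  exact h w hw

/-- A `p`-element and a `p'`-element which commute modulo the centre of `N` commute. -/
theorem commute_of_commutator_mem {k h : G} (hk : k ∈ N) (hh : h ∈ N)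
    (hcop : (orderOf k).Coprime (orderOf h)) (hc : k * h * k⁻¹ * h⁻¹ ∈ ctr N) : Commute k h := by
  set z := k * h * k⁻¹ * h⁻¹ with hz
  have h1 : k * h * k⁻¹ = z * h := by rw [hz]; group
  have hzh : Commute z h := commute_ctr hh hc
  have hzk : Commute z k := commute_ctr hk hc
  have hpow : ∀ n : ℕ, k ^ n * h * (k ^ n)⁻¹ = z ^ n * h := by
    intro n
    induction n with
    | zero => simp
    | succ n ih =>
      calc k ^ (n + 1) * h * (k ^ (n + 1))⁻¹ = k * (k ^ n * h * (k ^ n)⁻¹) * k⁻¹ := by rw [pow_succ']; group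
        _ = (k * z ^ n) * h * k⁻¹ := by rw [ih]; group
        _ = (z ^ n * k) * h * k⁻¹ := by rw [(hzk.pow_left n).eq]
        _ = z ^ n * (k * h * k⁻¹) := by group
        _ = z ^ (n + 1) * h := by rw [h1, ← mul_assoc, pow_succ]
  have hz1 : z ^ orderOf k = 1 := by
    have := hpow (orderOf k)
    rw [pow_orderOf_eq_one, inv_one, mul_one, one_mul] at this
    exact mul_eq_right.mp this.symm
  have hz2 : z ^ orderOf h = 1 := by
    have := congrArg (· ^ orderOf h) h1
    simp only [conj_pow, pow_orderOf_eq_one, hzh.mul_pow, mul_one, mul_inv_cancel] at this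
    exact this.symm
  have hd : orderOf z ∣ Nat.gcd (orderOf k) (orderOf h) :=
    Nat.dvd_gcd (orderOf_dvd_of_pow_eq_one hz1) (orderOf_dvd_of_pow_eq_one hz2)
  rw [hcop] at hd
  rw [orderOf_eq_one_iff.mp (Nat.dvd_one.mp hd), one_mul] at h1
  exact mul_inv_eq_iff_eq_mul.mp h1

/-- Normal subgroups between a minimal one: a normal subgroup above the centre with elementary abelian quotient. -/
theorem exists_minimal_over [N.Normal] (hN : Hyp N) (hna : ¬ N ≤ centralizer (N : Set G)) :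
    ∃ (K : Subgroup G) (p : ℕ), p.Prime ∧ K.Normal ∧ ctr N ≤ K ∧ K ≤ N ∧ ¬ K ≤ ctr N ∧
      (∀ k ∈ K, k ^ p ∈ ctr N) ∧ (∀ a ∈ K, ∀ b ∈ K, a * b * a⁻¹ * b⁻¹ ∈ ctr N) ∧
      (∀ B : Subgroup G, B.Normal → ctr N ≤ B → B ≤ K → B = ctr N ∨ B = K) := by
  classical
  obtain ⟨L, hLN, hLn, hLnil, hLc⟩ := exists_nilpotent_normal _ N ‹_› rfl hN hna
  set π := QuotientGroup.mk' (ctr N)
  have hπ : Function.Surjective π := QuotientGroup.mk'_surjective _
  haveI : (L.map π).Normal := hLn.map _ hπ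
  have hLb : L.map π ≠ ⊥ := by
    rw [Ne, Subgroup.map_eq_bot_iff, QuotientGroup.ker_mk']
    exact fun h => hLc (h.trans inf_le_right)
  obtain ⟨A, hAL, hA⟩ := Finite.exists_le_minimal
    (p := fun B : Subgroup (G ⧸ ctr N) => B.Normal ∧ B ≤ L.map π ∧ B ≠ ⊥) (a := L.map π) ⟨inferInstance, le_rfl, hLb⟩
  obtain ⟨hAn, -, hAb⟩ := hA.1
  have hmin : ∀ B : Subgroup (G ⧸ ctr N), B.Normal → B ≤ A → B = ⊥ ∨ B = A := fun B hB hBA => by
    by_cases hb : B = ⊥
    · exact Or.inl hb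
    · exact Or.inr (le_antisymm hBA (hA.2 ⟨hB, hBA.trans hAL, hb⟩ hBA))
  haveI hLnil' : Group.IsNilpotent (L.map π) :=
    Group.nilpotent_of_surjective (π.subgroupMap L) (π.subgroupMap_surjective L)
  haveI : Group.IsNilpotent A := Group.nilpotent_of_mulEquiv (Subgroup.subgroupOfEquivOfLe hAL)
  obtain ⟨p, hp, hpd⟩ := Nat.exists_prime_and_dvd (fun h => hAb (Subgroup.card_eq_one.mp h))
  haveI : Fact p.Prime := ⟨hp⟩
  obtain ⟨Q⟩ := (inferInstance : Nonempty (Sylow p A))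
  haveI hQn : (Q : Subgroup A).Normal :=
    ((Group.isNilpotent_of_finite_tfae (G := A)).out 0 3 rfl rfl).mp ‹_› p ‹_› Q
  haveI : (Q : Subgroup A).Characteristic := Sylow.characteristic_of_normal Q hQn
  have hAp : IsPGroup p A := by
    rcases hmin _ (inferInstance : ((Q : Subgroup A).map A.subtype).Normal) (map_subtype_le _) with h | h
    · exact absurd ((map_eq_bot_iff_of_injective _ A.subtype_injective).mp h) (Q.ne_bot_of_dvd_card hpd)
    · exact h ▸ Q.isPGroup'.map A.subtype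
  obtain ⟨hAc, hAe⟩ := CfsgLib.PNilpotent.isElementaryAbelian_of_minimal A hAp hAb hmin
  refine ⟨A.comap π, p, hp, hAn.comap _, fun z hz => ?_, ?_, fun hle => hAb ?_, fun k hk => ?_, fun a ha b hb => ?_,
    fun B hB hZB hBK => ?_⟩
  · change π z ∈ A
    rw [show π z = 1 from (QuotientGroup.eq_one_iff z).mpr hz]; exact one_mem _
  · intro g hg
    obtain ⟨l, hl, hlg⟩ := hAL hg
    have h1 : l⁻¹ * g ∈ ctr N := QuotientGroup.eq.mp hlg
    have := mul_mem (hLN hl) (ctr_le h1)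
    rwa [mul_inv_cancel_left] at this
  · rw [← Subgroup.map_comap_eq_self_of_surjective hπ A, Subgroup.map_eq_bot_iff, QuotientGroup.ker_mk']
    exact hle
  · rw [← QuotientGroup.eq_one_iff]
    exact (map_pow π k p).trans (hAe _ hk)
  · rw [← QuotientGroup.eq_one_iff]
    change π _ = 1
    have hcm : π a * π b = π b * π a := congrArg Subtype.val (hAc.is_comm.comm ⟨π a, ha⟩ ⟨π b, hb⟩)
    rw [map_mul, map_mul, map_mul, map_inv, map_inv, hcm]
    group
  · have hB' : (B.map π).Normal := hB.map _ hπ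
    have hBc : B = (B.map π).comap π := by
      rw [Subgroup.comap_map_eq, QuotientGroup.ker_mk', sup_eq_left.mpr hZB]
    rcases hmin _ hB' (map_le_iff_le_comap.mpr hBK) with h | h
    · left
      rw [hBc, h, MonoidHom.comap_bot, QuotientGroup.ker_mk']
    · right; rw [hBc, h]

/-- The Frobenius case of the structure theorem, in `G`. -/
structure Config (N K X : Subgroup G) (p q : ℕ) : Prop where
  hp : p.Prime
  hq : q.Prime
  hpq : p ≠ q
  K_normal : K.Normal
  ctr_le_K : ctr N ≤ K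
  K_le : K ≤ N
  K_ne : ¬ K ≤ ctr N
  K_pow : ∀ k ∈ K, k ^ p ∈ ctr N
  K_comm : ∀ a ∈ K, ∀ b ∈ K, Commute a b
  K_min : ∀ B : Subgroup G, B.Normal → ctr N ≤ B → B ≤ K → B = ctr N ∨ B = K
  ctr_le_X : ctr N ≤ X
  X_le : X ≤ N
  inf_le : K ⊓ X ≤ ctr N
  mul_eq : ∀ g ∈ N, ∃ k ∈ K, ∃ h ∈ X, g = k * h
  X_card : (ctr N).relIndex X = q
  fpf : ∀ g ∈ N, g ∉ K → ∀ k ∈ K, k * g * k⁻¹ * g⁻¹ ∈ ctr N → k ∈ ctr N

/-- If all `p'`-elements are central then `N` modulo its centre is elementary abelian. -/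
theorem elementary_of_pPrime_central [N.Normal] (hN : Hyp N) {p : ℕ} [Fact p.Prime]
    (h : ∀ g ∈ N, (orderOf g).Coprime p → g ∈ centralizer (N : Set G)) :
    ∀ a ∈ N, a ^ p ∈ ctr N ∧ ∀ b ∈ N, a * b * a⁻¹ * b⁻¹ ∈ ctr N := by
  have hnil := isNilpotent_of_pPrime_central (p := p) h
  suffices key : ∀ x ∈ N, x ∉ centralizer (N : Set G) → ∀ a ∈ N,
      Commute (a ^ p) x ∧ ∀ b ∈ N, Commute (a * b * a⁻¹ * b⁻¹) x by
    intro a ha
    have h1 : ∀ x ∈ N, Commute (a ^ p) x ∧ ∀ b ∈ N, Commute (a * b * a⁻¹ * b⁻¹) x := fun x hx => by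
      by_cases hxc : x ∈ centralizer (N : Set G)
      · exact ⟨(mem_centralizer_iff_commute.mp hxc _ (pow_mem ha p)).symm, fun b hb =>
          (mem_centralizer_iff_commute.mp hxc _ (mul_mem (mul_mem (mul_mem ha hb) (inv_mem ha)) (inv_mem hb))).symm⟩
      · exact key x hx hxc a ha
    exact ⟨mem_inf.mpr ⟨pow_mem ha p, mem_centralizer_iff_commute.mpr fun x hx => (h1 x hx).1⟩, fun b hb =>
      mem_inf.mpr ⟨mul_mem (mul_mem (mul_mem ha hb) (inv_mem ha)) (inv_mem hb),
        mem_centralizer_iff_commute.mpr fun x hx => (h1 x hx).2 b hb⟩⟩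
  intro x hx hxc
  set M := centralizer ({x} : Set G) with hM
  have hMc : IsCoatom M := hN x hx hxc
  set X := N ⊓ M
  have hMX : ∀ g ∈ M, g ∈ Subgroup.normalizer (X : Set G) := fun g hg => mem_normalizer_of_conj_mem fun w hw =>
    mem_inf.mpr ⟨‹N.Normal›.conj_mem w hw.1 g, (M.mul_mem (M.mul_mem hg hw.2) (M.inv_mem hg) : g * w * g⁻¹ ∈ M)⟩
  have hNM : ¬ N ≤ M := fun hle => hxc (mem_centralizer_iff_commute.mpr fun y hy => (mem_cent_single.mp (hle hy)).symm)
  haveI hXn : X.Normal := by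
    rw [← normalizer_eq_top_iff]
    refine (hMc.le_iff.mp hMX).resolve_right fun he => ?_
    have hne : X.subgroupOf N ≠ ⊤ := fun h => hNM ((subgroupOf_eq_top.mp h).trans inf_le_right)
    obtain ⟨y, hy, hyn⟩ := SetLike.exists_of_lt (Group.normalizerCondition_of_isNilpotent _ hne.lt_top)
    refine hyn (mem_inf.mpr ⟨y.2, he ▸ mem_normalizer_of_conj_mem fun w hw => ?_⟩)
    exact (mem_normalizer_iff.mp hy ⟨w, hw.1⟩).mp hw
  set π := QuotientGroup.mk' X
  have hπ : Function.Surjective π := QuotientGroup.mk'_surjective X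
  haveI : (N.map π).Normal := Subgroup.Normal.map ‹_› _ hπ
  have hXN : X ≤ N := inf_le_left
  have hNb : N.map π ≠ ⊥ := by
    rw [Ne, Subgroup.map_eq_bot_iff, QuotientGroup.ker_mk']
    exact fun h => hNM (h.trans inf_le_right)
  have hmin : ∀ B : Subgroup (G ⧸ X), B.Normal → B ≤ N.map π → B = ⊥ ∨ B = N.map π := by
    intro B hB hBN
    have hle : B.comap π ≤ N := fun y hy => by
      obtain ⟨w, hw, hwy⟩ := hBN hy
      have := mul_mem hw (hXN (QuotientGroup.eq.mp hwy))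
      rwa [mul_inv_cancel_left] at this
    haveI := hB.comap π
    by_cases hBM : B.comap π ≤ M
    · left
      rw [eq_bot_iff]
      intro y hy
      obtain ⟨w, rfl⟩ := hπ y
      exact mem_bot.mpr ((QuotientGroup.eq_one_iff w).mpr ⟨hle hy, hBM hy⟩)
    · right
      refine le_antisymm hBN (map_le_iff_le_comap.mpr fun g hg => ?_)
      have htop : B.comap π ⊔ M = ⊤ := (hMc.le_iff.mp le_sup_right).resolve_right fun he => hBM (he ▸ le_sup_left)
      obtain ⟨b, hb, m, hm, rfl⟩ := mem_sup_of_normal_left.mp (htop ▸ mem_top g)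
      have hmX : m ∈ X := by
        refine mem_inf.mpr ⟨?_, hm⟩
        have := mul_mem (inv_mem (hle hb)) hg
        rwa [inv_mul_cancel_left] at this
      change π (b * m) ∈ B
      rw [map_mul, show π m = 1 from (QuotientGroup.eq_one_iff m).mpr hmX, mul_one]
      exact hb
  have hpN : IsPGroup p (N.map π) := by
    rintro ⟨_, g, hg, rfl⟩
    obtain ⟨a, b, hab, ⟨j, hj⟩, hcop⟩ := CfsgLib.PNilpotent.exists_pPart_decomp (p := p) g
    refine ⟨j, Subtype.ext ?_⟩
    change π g ^ p ^ j = 1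
    rw [← map_pow, ← hab, (Commute.pow_pow_self g a b).mul_pow, ← hj, pow_orderOf_eq_one, one_mul]
    refine (QuotientGroup.eq_one_iff _).mpr (pow_mem (mem_inf.mpr ⟨pow_mem hg b, ?_⟩) _)
    exact mem_cent_single.mpr (mem_centralizer_iff_commute.mp (h _ (pow_mem hg b) hcop) x hx)
  obtain ⟨hc, he⟩ := CfsgLib.PNilpotent.isElementaryAbelian_of_minimal _ hpN hNb hmin
  intro a ha
  refine ⟨?_, fun b hb => ?_⟩
  · have h1 : a ^ p ∈ X := by
      rw [← QuotientGroup.eq_one_iff]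
      exact (map_pow π a p).trans (he _ (mem_map_of_mem π ha))
    exact mem_cent_single.mp h1.2
  · have h1 : a * b * a⁻¹ * b⁻¹ ∈ X := by
      rw [← QuotientGroup.eq_one_iff]
      change π _ = 1
      have hcm : π a * π b = π b * π a :=
        congrArg Subtype.val (hc.is_comm.comm ⟨π a, mem_map_of_mem π ha⟩ ⟨π b, mem_map_of_mem π hb⟩)
      rw [map_mul, map_mul, map_mul, map_inv, map_inv, hcm]
      group
    exact mem_cent_single.mp h1.2

/-- The main dichotomy. -/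
theorem dichotomy [N.Normal] (hN : Hyp N) :
    (∃ p : ℕ, p.Prime ∧ ∀ a ∈ N, a ^ p ∈ ctr N ∧ ∀ b ∈ N, a * b * a⁻¹ * b⁻¹ ∈ ctr N) ∨
      ∃ (K X : Subgroup G) (p q : ℕ), Config N K X p q := by
  classical
  by_cases hna : N ≤ centralizer (N : Set G)
  · exact Or.inl ⟨2, Nat.prime_two, fun a ha => ⟨mem_inf.mpr ⟨pow_mem ha 2, hna (pow_mem ha 2)⟩, fun b hb =>
      mem_inf.mpr ⟨mul_mem (mul_mem (mul_mem ha hb) (inv_mem ha)) (inv_mem hb),
        hna (mul_mem (mul_mem (mul_mem ha hb) (inv_mem ha)) (inv_mem hb))⟩⟩⟩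
  obtain ⟨K, p, hp, hKn, hZK, hKN, hKne, hKpow, hKcomm, hKmin⟩ := exists_minimal_over hN hna
  haveI : Fact p.Prime := ⟨hp⟩
  by_cases hall : ∀ g ∈ N, (orderOf g).Coprime p → g ∈ centralizer (N : Set G)
  · exact Or.inl ⟨p, hp, elementary_of_pPrime_central hN hall⟩
  right
  -- `K` is a central extension of a `p`-group
  have hKsplit : ∀ k ∈ K, ∃ k' ∈ K, (∃ j, orderOf k' = p ^ j) ∧ k'⁻¹ * k ∈ ctr N := by
    intro k hk
    obtain ⟨a, b, hab, hj, hcop⟩ := CfsgLib.PNilpotent.exists_pPart_decomp (p := p) k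
    refine ⟨k ^ a, pow_mem hk a, hj, ?_⟩
    obtain ⟨c, hc⟩ := exists_pow_eq_self_of_coprime (x := k ^ b) (n := p) hcop.symm
    have h1 : (k ^ a)⁻¹ * k = k ^ b := inv_mul_eq_iff_eq_mul.mpr hab.symm
    rw [h1, ← hc]
    exact pow_mem (hKpow _ (pow_mem hk b)) c
  have hKcommute : ∀ y ∈ N, (∀ k ∈ K, (∃ j, orderOf k = p ^ j) → Commute k y) → K ≤ centralizer ({y} : Set G) := by
    intro y hy h k hk
    obtain ⟨k', hk', hj, hz⟩ := hKsplit k hk
    rw [mem_cent_single]
    have := (h k' hk' hj).mul_left (commute_ctr hy hz)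
    rwa [mul_inv_cancel_left] at this
  have hcopy : ∀ {k y : G} (j : ℕ), orderOf k = p ^ j → (orderOf y).Coprime p → (orderOf k).Coprime (orderOf y) :=
    fun j hj hy => hj ▸ hy.symm.pow_left j
  -- A1
  have hA1 : ∀ y ∈ N, y ∉ centralizer (N : Set G) → (orderOf y).Coprime p → ¬ K ≤ centralizer ({y} : Set G) := by
    intro y hy hyc hyo hle
    obtain ⟨k₀, hk₀K, hk₀⟩ := SetLike.not_le_iff_exists.mp hKne
    obtain ⟨k₁, hk₁K, ⟨j₁, hj₁⟩, hz₁⟩ := hKsplit k₀ hk₀K
    have hk₁c : k₁ ∉ centralizer (N : Set G) := fun h => hk₀ (by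
      have := mul_mem (⟨hKN hk₁K, h⟩ : k₁ ∈ ctr N) hz₁
      rwa [mul_inv_cancel_left] at this)
    set M := centralizer ({y} : Set G) with hM
    have hMk : centralizer ({k₁} : Set G) = M :=
      centralizer_eq_of_coprime hN (hKN hk₁K) hy (mem_cent_single.mp (hle hk₁K)) (hcopy j₁ hj₁ hyo) hk₁c hyc
    have hMK : ∀ g ∈ N, g ∈ M → ∀ k ∈ K, Commute g k := by
      intro g hg hgM k hk
      obtain ⟨k', hk', ⟨j, hj⟩, hz⟩ := hKsplit k hk
      have h1 : Commute g k' := by
        by_cases hc : k' ∈ centralizer (N : Set G)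
        · exact (mem_centralizer_iff_commute.mp hc g hg).symm
        · have := centralizer_eq_of_coprime hN (hKN hk') hy (mem_cent_single.mp (hle hk')) (hcopy j hj hyo) hc hyc
          exact mem_cent_single.mp (this.symm ▸ hgM)
      have := h1.mul_right (commute_ctr hg hz).symm
      rwa [mul_inv_cancel_left] at this
    have hMab : ∀ a ∈ N, a ∈ M → ∀ b ∈ N, b ∈ M → Commute a b := by
      intro a ha haM b hb hbM
      obtain ⟨i, l, hab, ⟨j, hj⟩, hcop⟩ := CfsgLib.PNilpotent.exists_pPart_decomp (p := p) a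
      rw [← hab]
      refine Commute.mul_left ?_ ?_
      · by_cases hc : a ^ i ∈ centralizer (N : Set G)
        · exact mem_centralizer_iff_commute.mp hc b hb
        · have := centralizer_eq_of_coprime hN (pow_mem ha i) hy ((mem_cent_single.mp haM).pow_left i)
            (hcopy j hj hyo) hc hyc
          exact (mem_cent_single.mp (this.symm ▸ hbM)).symm
      · by_cases hc : a ^ l ∈ centralizer (N : Set G)
        · exact mem_centralizer_iff_commute.mp hc b hb
        · have := centralizer_eq_of_coprime hN (hKN hk₁K) (pow_mem ha l)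
            ((hMK a ha haM k₁ hk₁K).symm.pow_right l) (hcopy j₁ hj₁ hcop) hk₁c hc
          exact (mem_cent_single.mp (this ▸ hMk.symm ▸ hbM)).symm
    obtain ⟨n, hn, hnM⟩ : ∃ n ∈ N, n ∉ M := SetLike.not_le_iff_exists.mp fun h =>
      hyc (mem_centralizer_iff_commute.mpr fun w hw => (mem_cent_single.mp (h hw)).symm)
    have hnc : n ∉ centralizer (N : Set G) := fun h => hnM (mem_cent_single.mpr (mem_centralizer_iff_commute.mp h y hy))
    have hKn' : ¬ K ≤ centralizer ({n} : Set G) := fun h =>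
      hnM (hMk ▸ mem_cent_single.mpr (mem_cent_single.mp (h hk₁K)).symm)
    have htop : K ⊔ centralizer ({n} : Set G) = ⊤ :=
      ((hN n hn hnc).le_iff.mp le_sup_right).resolve_right fun he => hKn' (he ▸ le_sup_left)
    obtain ⟨k, hk, c, hc, hkc⟩ := mem_sup_of_normal_left.mp (htop ▸ mem_top y)
    have hkM : k ∈ M := hle hk
    have hcM : c ∈ M := by
      have := M.mul_mem (M.inv_mem hkM) (mem_cent_single.mpr (Commute.refl y) : y ∈ M)
      rwa [← hkc, inv_mul_cancel_left] at this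
    have hcN : c ∈ N := by
      have := mul_mem (inv_mem (hKN hk)) hy
      rwa [← hkc, inv_mul_cancel_left] at this
    have hyp : Commute (y ^ p) n := by
      rw [← hkc, (hMab k (hKN hk) hkM c hcN hcM).mul_pow]
      exact (commute_ctr hn (hKpow k hk)).mul_left ((mem_cent_single.mp hc).pow_left p)
    obtain ⟨d, hd⟩ := exists_pow_eq_self_of_coprime (x := y) (n := p) hyo.symm
    have hny : Commute y n := hd ▸ hyp.pow_left d
    exact hnM (mem_cent_single.mpr hny.symm)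
  -- A2
  have hA2 : ∀ y ∈ N, y ∉ centralizer (N : Set G) → (orderOf y).Coprime p →
      K ⊓ centralizer ({y} : Set G) ≤ ctr N ∧ K ⊔ centralizer ({y} : Set G) = ⊤ := by
    intro y hy hyc hyo
    set M := centralizer ({y} : Set G) with hM
    have hMc : IsCoatom M := hN y hy hyc
    have hK1 := hA1 y hy hyc hyo
    have htop : K ⊔ M = ⊤ := (hMc.le_iff.mp le_sup_right).resolve_right fun he => hK1 ((le_sup_left : K ≤ K ⊔ M).trans he.le)
    refine ⟨?_, htop⟩
    have hZM : ctr N ≤ M := fun z hz => mem_cent_single.mpr (commute_ctr hy hz)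
    have hB : (K ⊓ M).Normal := by
      rw [← normalizer_eq_top_iff, ← top_le_iff, ← htop]
      refine sup_le (fun k hk => mem_normalizer_of_conj_mem fun w hw => ?_)
        (fun g hg => mem_normalizer_of_conj_mem fun w hw =>
          mem_inf.mpr ⟨hKn.conj_mem w hw.1 g, (M.mul_mem (M.mul_mem hg hw.2) (M.inv_mem hg) : g * w * g⁻¹ ∈ M)⟩)
      have h1 := hKcomm k hk w hw.1
      refine mem_inf.mpr ⟨hKn.conj_mem w hw.1 k, ?_⟩
      have := M.mul_mem (hZM h1) hw.2
      rwa [inv_mul_cancel_right] at this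
    rcases hKmin _ hB (le_inf hZK hZM) inf_le_left with h | h
    · exact h.le
    · exact absurd (h ▸ inf_le_right) hK1
  -- A3
  have hA3 : ∀ y ∈ N, y ∉ centralizer (N : Set G) → (orderOf y).Coprime p →
      ∀ k ∈ K, k * y * k⁻¹ * y⁻¹ ∈ ctr N → k ∈ ctr N := by
    intro y hy hyc hyo k hk hc
    obtain ⟨k', hk', ⟨j, hj⟩, hz⟩ := hKsplit k hk
    have hc' : k' * y * k'⁻¹ * y⁻¹ ∈ ctr N := by
      convert hc using 1
      have h2 : k' * (k'⁻¹ * k) = k := mul_inv_cancel_left k' k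
      have h3 := (commute_ctr hy hz).eq
      conv_rhs => rw [← h2]
      calc k' * y * k'⁻¹ * y⁻¹ = k' * (y * (k'⁻¹ * k)) * (k'⁻¹ * k)⁻¹ * k'⁻¹ * y⁻¹ := by group
        _ = k' * ((k'⁻¹ * k) * y) * (k'⁻¹ * k)⁻¹ * k'⁻¹ * y⁻¹ := by rw [h3]
        _ = _ := by group
    have h1 : k' ∈ ctr N := (hA2 y hy hyc hyo).1
      (mem_inf.mpr ⟨hk', mem_cent_single.mpr (commute_of_commutator_mem (hKN hk') hy (hcopy j hj hyo) hc')⟩)
    have := mul_mem h1 hz
    rwa [mul_inv_cancel_left] at this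
  push Not at hall
  obtain ⟨y₀, hy₀, hy₀o, hy₀c⟩ := hall
  -- A4
  have hA4 : ∀ u ∈ N, (∃ j, orderOf u = p ^ j) → u ∈ K := by
    intro u hu ⟨j, hj⟩
    obtain ⟨hinf, htop⟩ := hA2 y₀ hy₀ hy₀c hy₀o
    obtain ⟨k, hk, c, hc, hkc⟩ := mem_sup_of_normal_left.mp (htop ▸ mem_top u)
    have hcN : c ∈ N := by
      have := mul_mem (inv_mem (hKN hk)) hu
      rwa [← hkc, inv_mul_cancel_left] at this
    obtain ⟨i, l, hil, ⟨m, hm⟩, hcop⟩ := CfsgLib.PNilpotent.exists_pPart_decomp (p := p) c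
    have hc1 : c ^ i ∈ ctr N := by
      by_contra hne
      have hc1c := (notMem_ctr (pow_mem hcN i)).mp hne
      have hMeq := centralizer_eq_of_coprime hN (pow_mem hcN i) hy₀ ((mem_cent_single.mp hc).pow_left i)
        (hcopy m hm hy₀o) hc1c hy₀c
      set π := QuotientGroup.mk' (ctr N)
      have hπ : Function.Surjective π := QuotientGroup.mk'_surjective _
      haveI : (K.map π).Normal := hKn.map _ hπ
      have hKp : IsPGroup p (K.map π) := by
        rintro ⟨_, w, hw, rfl⟩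
        refine ⟨1, Subtype.ext ?_⟩
        change π w ^ p ^ 1 = 1
        rw [pow_one, ← map_pow]
        exact (QuotientGroup.eq_one_iff _).mpr (hKpow w hw)
      have hcp : IsPGroup p (Subgroup.zpowers (π (c ^ i))) := by
        obtain ⟨m', -, hm'⟩ := (Nat.dvd_prime_pow hp).mp (hm ▸ orderOf_map_dvd π (c ^ i))
        exact IsPGroup.of_card (n := m') (by rw [Nat.card_zpowers, hm'])
      have hP := hKp.to_sup_of_normal_left hcp
      have hle : K.map π ≤ K.map π ⊔ Subgroup.zpowers (π (c ^ i)) := le_sup_left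
      haveI : ((K.map π).subgroupOf (K.map π ⊔ Subgroup.zpowers (π (c ^ i)))).Normal := inferInstance
      obtain ⟨z, hz, hzc, hzo⟩ := CfsgLib.PGroup.exists_central_orderOf_eq hP
        ((K.map π).subgroupOf (K.map π ⊔ Subgroup.zpowers (π (c ^ i)))) (by
          rw [Ne, subgroupOf_eq_bot, disjoint_iff, inf_eq_left.mpr hle, Subgroup.map_eq_bot_iff, QuotientGroup.ker_mk']
          exact hKne)
      obtain ⟨w, hw, hwz⟩ := mem_subgroupOf.mp hz
      have hwne : w ∉ ctr N := fun h => by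
        have : (z : G ⧸ ctr N) = 1 := hwz ▸ (QuotientGroup.eq_one_iff w).mpr h
        rw [OneMemClass.coe_eq_one] at this
        rw [this, orderOf_one] at hzo
        exact hp.ne_one hzo.symm
      have hcomm : w * c ^ i * w⁻¹ * (c ^ i)⁻¹ ∈ ctr N := by
        rw [← QuotientGroup.eq_one_iff]
        change π _ = 1
        have h1 := congrArg Subtype.val (mem_center_iff.mp hzc ⟨π (c ^ i), mem_sup_right (Subgroup.mem_zpowers _)⟩)
        simp only [Subgroup.coe_mul] at h1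
        rw [← hwz] at h1
        rw [map_mul, map_mul, map_mul, map_inv, map_inv, ← h1]
        group
      apply hwne
      apply hA3 y₀ hy₀ hy₀c hy₀o w hw
      -- conjugate by `y₀`
      set t := c ^ i with ht
      have hyt : Commute y₀ t := mem_cent_single.mp (hMeq.symm ▸ mem_cent_single.mpr (Commute.refl y₀))
      have hzy : Commute (w * t * w⁻¹ * t⁻¹) y₀ := commute_ctr hy₀ hcomm
      have h2 : y₀ * w * y₀⁻¹ * t * (y₀ * w * y₀⁻¹)⁻¹ * t⁻¹ = w * t * w⁻¹ * t⁻¹ := by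
        calc y₀ * w * y₀⁻¹ * t * (y₀ * w * y₀⁻¹)⁻¹ * t⁻¹
            = y₀ * w * y₀⁻¹ * (t * y₀) * w⁻¹ * (t * y₀)⁻¹ := by group
          _ = y₀ * w * y₀⁻¹ * (y₀ * t) * w⁻¹ * (y₀ * t)⁻¹ := by rw [hyt.eq]
          _ = y₀ * (w * t * w⁻¹ * t⁻¹) * y₀⁻¹ := by group
          _ = w * t * w⁻¹ * t⁻¹ := by rw [← hzy.eq, mul_inv_cancel_right]
      have h3 : w⁻¹ * (y₀ * w * y₀⁻¹) ∈ K ⊓ centralizer ({y₀} : Set G) := by
        refine mem_inf.mpr ⟨mul_mem (inv_mem hw) (hKn.conj_mem w hw y₀), hMeq ▸ mem_cent_single.mpr ?_⟩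
        have h4 := mul_right_cancel h2
        change w⁻¹ * (y₀ * w * y₀⁻¹) * t = t * (w⁻¹ * (y₀ * w * y₀⁻¹))
        calc w⁻¹ * (y₀ * w * y₀⁻¹) * t = w⁻¹ * (y₀ * w * y₀⁻¹ * t * (y₀ * w * y₀⁻¹)⁻¹) * (y₀ * w * y₀⁻¹) := by group
          _ = w⁻¹ * (w * t * w⁻¹) * (y₀ * w * y₀⁻¹) := by rw [h4]
          _ = _ := by group
      have h5 := (ctr_normal (N := N)).conj_mem _ (inv_mem (hinf h3)) w
      convert h5 using 1
      group
    have hc2 : c ^ l ∈ K := by
      set π := QuotientGroup.mk' K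
      have h1 : π u = π (c ^ l) := by
        rw [← hkc, map_mul, show π k = 1 from (QuotientGroup.eq_one_iff k).mpr hk, one_mul]
        conv_lhs => rw [← hil]
        rw [map_mul, show π (c ^ i) = 1 from (QuotientGroup.eq_one_iff _).mpr (hZK hc1), one_mul]
      have h2 : orderOf (π (c ^ l)) ∣ Nat.gcd (p ^ j) (orderOf (c ^ l)) :=
        Nat.dvd_gcd (h1 ▸ hj ▸ orderOf_map_dvd π u) (orderOf_map_dvd π _)
      rw [hcop.symm.pow_left j] at h2
      exact (QuotientGroup.eq_one_iff _).mp (orderOf_eq_one_iff.mp (Nat.dvd_one.mp h2))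
    rw [← hkc, ← hil]
    exact mul_mem hk (mul_mem (hZK hc1) hc2)
  have hsplit2 : ∀ g ∈ N, g ∉ K → ∃ b : ℕ, g ^ b ∉ centralizer (N : Set G) ∧ (orderOf (g ^ b)).Coprime p ∧ g ^ b ∉ K := by
    intro g hg hgK
    obtain ⟨a, b, hab, hj, hcop⟩ := CfsgLib.PNilpotent.exists_pPart_decomp (p := p) g
    have hb : g ^ b ∉ K := fun h => hgK (hab ▸ mul_mem (hA4 _ (pow_mem hg a) hj) h)
    exact ⟨b, fun h => hb (hZK ⟨pow_mem hg b, h⟩), hcop, hb⟩
  have hfpf : ∀ g ∈ N, g ∉ K → ∀ k ∈ K, k * g * k⁻¹ * g⁻¹ ∈ ctr N → k ∈ ctr N := by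
    intro g hg hgK k hk hc
    obtain ⟨b, hb1, hb2, -⟩ := hsplit2 g hg hgK
    refine hA3 _ (pow_mem hg b) hb1 hb2 k hk ?_
    rw [← QuotientGroup.eq_one_iff] at hc ⊢
    change QuotientGroup.mk' (ctr N) _ = 1 at hc ⊢
    rw [map_mul, map_mul, map_mul, map_inv, map_inv] at hc ⊢
    rw [mul_inv_eq_one, mul_inv_eq_iff_eq_mul] at hc ⊢
    rw [map_pow]
    exact (Commute.pow_right (show Commute _ _ from hc) b).eq
  -- A5
  have hA5 : ∀ k ∈ K, k ∉ ctr N → K ≤ centralizer ({k} : Set G) := by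
    intro k hk hkc
    by_contra hle
    have hkN := hKN hk
    have htop : K ⊔ centralizer ({k} : Set G) = ⊤ :=
      ((hN k hkN ((notMem_ctr hkN).mp hkc)).le_iff.mp le_sup_right).resolve_right fun he => hle (he ▸ le_sup_left)
    obtain ⟨k', hk', c, hc, hkc'⟩ := mem_sup_of_normal_left.mp (htop ▸ mem_top y₀)
    have hy₀K : y₀ ∉ K := fun h => by
      obtain ⟨d, hd⟩ := exists_pow_eq_self_of_coprime (x := y₀) (n := p) hy₀o.symm
      exact hy₀c (hd ▸ pow_mem (hKpow _ h) d).2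
    have hcK : c ∉ K := fun h => hy₀K (hkc' ▸ mul_mem hk' h)
    have hcN : c ∈ N := by
      have := mul_mem (inv_mem (hKN hk')) hy₀
      rwa [← hkc', inv_mul_cancel_left] at this
    refine hkc (hfpf c hcN hcK k hk ?_)
    rw [(mem_cent_single.mp hc).symm.eq]
    simp
  have hKab : ∀ a ∈ K, ∀ b ∈ K, Commute a b := fun a ha b hb => by
    by_cases hbc : b ∈ ctr N
    · exact (commute_ctr (hKN ha) hbc).symm
    · exact mem_cent_single.mp (hA5 b hb hbc ha)
  -- a complement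
  obtain ⟨q, a, j, hq, hac, haj⟩ := exists_primePow_part (N := N) hy₀c
  haveI : Fact q.Prime := ⟨hq⟩
  set y := y₀ ^ a with hy_def
  have hy : y ∈ N := pow_mem hy₀ a
  have hyo : (orderOf y).Coprime p := hy₀o.coprime_dvd_left (orderOf_pow_dvd a)
  obtain ⟨hinf, htop⟩ := hA2 y hy hac hyo
  set L := centralizer ({y} : Set G) with hL
  set X := N ⊓ L
  have hXnil : Group.IsNilpotent X := isNilpotent_inf_centralizer hN hy hac haj
  have hZX : ctr N ≤ X := le_inf ctr_le fun z hz => mem_cent_single.mpr (commute_ctr hy hz)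
  have hKX : K ⊓ X ≤ ctr N := (inf_le_inf_left _ inf_le_right).trans hinf
  have hmul : ∀ g ∈ N, ∃ k ∈ K, ∃ h ∈ X, g = k * h := by
    intro g hg
    obtain ⟨k, hk, h, hh, rfl⟩ := mem_sup_of_normal_left.mp (htop ▸ mem_top g)
    refine ⟨k, hk, h, mem_inf.mpr ⟨?_, hh⟩, rfl⟩
    have := mul_mem (inv_mem (hKN hk)) hg
    rwa [inv_mul_cancel_left] at this
  obtain ⟨k₀, hk₀, hk₀c⟩ := SetLike.not_le_iff_exists.mp hKne
  have hchief : ∀ Y : Subgroup G, ctr N ≤ Y → Y ≤ X → (∀ g ∈ L, g ∈ Subgroup.normalizer (Y : Set G)) →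
      ¬ Y ≤ ctr N → Y = X := by
    intro Y hZY hYX hLY hYne
    have hKYn : (K ⊔ Y).Normal := by
      rw [← normalizer_eq_top_iff, ← top_le_iff, ← htop]
      refine sup_le (le_sup_left.trans Subgroup.le_normalizer) fun g hg => mem_normalizer_of_conj_mem fun w hw => ?_
      obtain ⟨k, hk, v, hv, rfl⟩ := mem_sup_of_normal_left.mp hw
      rw [show g * (k * v) * g⁻¹ = g * k * g⁻¹ * (g * v * g⁻¹) by group]
      exact mul_mem (mem_sup_left (hKn.conj_mem k hk g)) (mem_sup_right ((mem_normalizer_iff.mp (hLY g hg) v).mp hv))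
    set M := centralizer ({k₀} : Set G) with hM
    have hMc : IsCoatom M := hN k₀ (hKN hk₀) ((notMem_ctr (hKN hk₀)).mp hk₀c)
    have hMN : ∀ g ∈ N, g ∈ M → g ∈ K := fun g hg hgM => by
      by_contra hgK
      refine hk₀c (hfpf g hg hgK k₀ hk₀ ?_)
      rw [(mem_cent_single.mp hgM).symm.eq]
      simp
    have htop2 : M ⊔ (K ⊔ Y) = ⊤ := (hMc.le_iff.mp le_sup_left).resolve_right fun he => hYne fun v hv =>
      hKX (mem_inf.mpr ⟨hMN v (hYX hv).1 (he ▸ mem_sup_right (mem_sup_right hv)), hYX hv⟩)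
    refine le_antisymm hYX fun h hh => ?_
    obtain ⟨c, hc, w, hw, rfl⟩ := (mem_sup_of_normal_right (t := K ⊔ Y)).mp (htop2 ▸ mem_top h)
    obtain ⟨k, hk, v, hv, rfl⟩ := mem_sup_of_normal_left.mp hw
    have hckX : c * k ∈ X := by
      have := X.mul_mem hh (X.inv_mem (hYX hv))
      rwa [← mul_assoc, mul_inv_cancel_right] at this
    have hckK : c * k ∈ K := hMN _ hckX.1 (M.mul_mem hc (mem_cent_single.mpr (hKab k hk k₀ hk₀)))
    rw [← mul_assoc]
    exact mul_mem (hZY (hKX (mem_inf.mpr ⟨hckK, hckX⟩))) hv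
  set π := QuotientGroup.mk' (ctr N)
  have hπ : Function.Surjective π := QuotientGroup.mk'_surjective _
  have hLnorm : ∀ g ∈ L, ∀ v ∈ X, g * v * g⁻¹ ∈ X := fun g hg v hv =>
    mem_inf.mpr ⟨‹N.Normal›.conj_mem v hv.1 g, (L.mul_mem (L.mul_mem hg hv.2) (L.inv_mem hg) : g * v * g⁻¹ ∈ L)⟩
  set Xb := X.map π with hXb
  have hXbne : Xb ≠ ⊥ := by
    rw [Ne, Subgroup.map_eq_bot_iff, QuotientGroup.ker_mk']
    exact fun h => hac (h (mem_inf.mpr ⟨hy, mem_cent_single.mpr (Commute.refl y)⟩)).2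
  have hXbnil : Group.IsNilpotent Xb := Group.nilpotent_of_surjective (π.subgroupMap X) (π.subgroupMap_surjective X)
  -- abelian
  have hYconj : ∀ (B : Subgroup (G ⧸ ctr N)), B ≤ Xb → (∀ g ∈ L, ∀ b ∈ B, π g * b * (π g)⁻¹ ∈ B) → B ≠ ⊥ → B = Xb := by
    intro B hB hLB hBne
    have hle : B.comap π ≤ X := fun v hv => by
      obtain ⟨w, hw, hwv⟩ := hB hv
      have := mul_mem hw (hZX (QuotientGroup.eq.mp hwv))
      rwa [mul_inv_cancel_left] at this
    have h1 := hchief (B.comap π) (fun z hz => by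
        change π z ∈ B
        rw [show π z = 1 from (QuotientGroup.eq_one_iff z).mpr hz]; exact one_mem _) hle
      (fun g hg => mem_normalizer_of_conj_mem fun v hv => by
        change π (g * v * g⁻¹) ∈ B
        rw [map_mul, map_mul, map_inv]; exact hLB g hg _ hv)
      (fun h => hBne (by rw [← Subgroup.map_comap_eq_self_of_surjective hπ B, Subgroup.map_eq_bot_iff, QuotientGroup.ker_mk']; exact h))
    rw [hXb, ← h1, Subgroup.map_comap_eq_self_of_surjective hπ]
  have hLXb : ∀ g ∈ L, ∀ b ∈ Xb, π g * b * (π g)⁻¹ ∈ Xb := by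
    rintro g hg _ ⟨v, hv, rfl⟩
    exact ⟨_, hLnorm g hg v hv, by rw [map_mul, map_mul, map_inv]⟩
  have hXbab : ⁅Xb, Xb⁆ = ⊥ := by
    by_contra hne
    haveI : Group.IsNilpotent Xb := hXbnil
    have hlt : ⁅(⊤ : Subgroup Xb), (⊤ : Subgroup Xb)⁆ < (⊤ : Subgroup Xb) := by
      haveI : Nontrivial Xb := (Subgroup.nontrivial_iff_ne_bot Xb).mpr hXbne
      exact Group.IsSolvable.commutator_lt_top_of_nontrivial Xb
    have h1 := hYconj ⁅Xb, Xb⁆ (Subgroup.commutator_le.mpr fun a ha b hb =>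
      mul_mem (mul_mem (mul_mem ha hb) (inv_mem ha)) (inv_mem hb)) (fun g hg b hb => ?_) hne
    · rw [← map_subtype_lt_map_subtype, map_commutator, ← MonoidHom.range_eq_map, range_subtype, h1] at hlt
      exact lt_irrefl _ hlt
    · have hle : ⁅Xb, Xb⁆.map (MulAut.conj (π g)).toMonoidHom ≤ ⁅Xb, Xb⁆ := by
        rw [map_commutator]
        refine commutator_mono ?_ ?_ <;>
          (rintro _ ⟨v, hv, rfl⟩; exact hLXb g hg v hv)
      exact hle ⟨b, hb, rfl⟩
  haveI hXbc : IsMulCommutative Xb := le_centralizer_iff_isMulCommutative.mp (commutator_eq_bot_iff_le_centralizer.mp hXbab)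
  obtain ⟨r, hr, hrd⟩ := Nat.exists_prime_and_dvd (fun h => hXbne (Subgroup.card_eq_one.mp h))
  haveI : Fact r.Prime := ⟨hr⟩
  let Ω : Subgroup (G ⧸ ctr N) :=
    { carrier := {b | b ∈ Xb ∧ b ^ r = 1}
      one_mem' := ⟨one_mem _, one_pow _⟩
      mul_mem' := fun {a b} ha hb => ⟨mul_mem ha.1 hb.1, by
        rw [Commute.mul_pow (setLike_mul_comm (s := Xb) ha.1 hb.1), ha.2, hb.2, one_mul]⟩
      inv_mem' := fun {a} ha => ⟨inv_mem ha.1, by rw [inv_pow, ha.2, inv_one]⟩ }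
  have hΩ : Ω = Xb := by
    refine hYconj Ω (fun b hb => hb.1) (fun g hg b hb => ⟨hLXb g hg b hb.1, by rw [conj_pow, hb.2, mul_one, mul_inv_cancel]⟩) ?_
    intro h
    obtain ⟨b, hb⟩ := exists_prime_orderOf_dvd_card' r hrd
    have h1 : (b : G ⧸ ctr N) ∈ Ω := ⟨b.2, by rw [← hb, ← Subgroup.orderOf_coe, pow_orderOf_eq_one]⟩
    rw [h, mem_bot, OneMemClass.coe_eq_one] at h1
    rw [h1, orderOf_one] at hb
    exact hr.ne_one hb.symm
  have hXbexp : ∀ b ∈ Xb, b ^ r = 1 := fun b hb => (hΩ.ge hb).2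
  have hpr : p ≠ r := by
    rintro rfl
    have h1 := hXbexp (π y) (mem_map_of_mem π (mem_inf.mpr ⟨hy, mem_cent_single.mpr (Commute.refl y)⟩))
    rw [← map_pow] at h1
    obtain ⟨d, hd⟩ := exists_pow_eq_self_of_coprime (x := y) (n := p) hyo.symm
    exact hac (hd ▸ pow_mem ((QuotientGroup.eq_one_iff _).mp h1 : y ^ p ∈ ctr N) d).2
  have hXbr : IsPGroup r Xb := fun b => ⟨1, Subtype.ext (by rw [pow_one]; exact hXbexp b b.2)⟩
  have hKbp : IsPGroup p (K.map π) := by
    rintro ⟨_, w, hw, rfl⟩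
    refine ⟨1, Subtype.ext ?_⟩
    change π w ^ p ^ 1 = 1
    rw [pow_one, ← map_pow]
    exact (QuotientGroup.eq_one_iff _).mpr (hKpow w hw)
  have hcyc : IsCyclic Xb := by
    by_contra hnc
    haveI : (K.map π).Normal := hKn.map _ hπ
    have h1 : K.map π ≤ ⊥ := CfsgLib.Solvable.le_of_centralizer_le (A := Xb) hnc
      (by rw [Subgroup.normalizer_eq_top_iff.mpr ‹_›]; exact le_top)
      (by
        obtain ⟨u, hu⟩ := hXbr.exists_card_eq
        obtain ⟨v, hv⟩ := hKbp.exists_card_eq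
        rw [hu, hv]
        exact ((Nat.coprime_primes hr hp).mpr hpr.symm).pow u v)
      (by
        rintro _ ⟨v, hv, rfl⟩ hb1 _ hm
        obtain ⟨⟨k, hk, rfl⟩, hkc⟩ := mem_inf.mp hm
        have hvK : v ∉ K := fun h => hb1 ((QuotientGroup.eq_one_iff v).mpr (hKX (mem_inf.mpr ⟨h, hv⟩)))
        refine mem_bot.mpr ((QuotientGroup.eq_one_iff k).mpr (hfpf v hv.1 hvK k hk ?_))
        rw [← QuotientGroup.eq_one_iff]
        change π _ = 1
        rw [map_mul, map_mul, map_mul, map_inv, map_inv, (mem_cent_single.mp hkc).eq]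
        group)
    rw [le_bot_iff, Subgroup.map_eq_bot_iff, QuotientGroup.ker_mk'] at h1
    exact hKne h1
  have hXbcard : Nat.card Xb = r := by
    obtain ⟨g, hg⟩ := isCyclic_iff_exists_orderOf_eq_natCard.mp hcyc
    refine ((Nat.dvd_prime hr).mp ?_).resolve_left fun h => hXbne (Subgroup.card_eq_one.mp h)
    rw [← hg]
    exact orderOf_dvd_of_pow_eq_one (Subtype.ext (hXbexp g g.2))
  refine ⟨K, X, p, r, hp, hr, hpr, hKn, hZK, hKN, hKne, hKpow, hKab, hKmin, hZX, inf_le_left, hKX, hmul, ?_, hfpf⟩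
  rw [← hXbcard, hXb, Subgroup.relIndex, Subgroup.index_eq_card]
  have hker : (π.subgroupMap X).ker = (ctr N).subgroupOf X := by
    ext v
    rw [MonoidHom.mem_ker, mem_subgroupOf, ← QuotientGroup.eq_one_iff, Subtype.ext_iff]
    rfl
  rw [← hker]
  exact Nat.card_congr (QuotientGroup.quotientKerEquivOfSurjective _ (π.subgroupMap_surjective X)).toEquiv

end CfsgLib.MaxCentralizer
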