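import Mathlib
import Cfsg.Prelude.Def_Solvable
import Cfsg.Agent.Lib.MaxCentralizer.Structure

/-!
The structure theorem for normal subgroups with maximal centralisers, read in the central quotient of `N`.
-/

namespace CfsgLib.MaxCentralizer

open Subgroup
open scoped Pointwise

universe u

variable {G : Type u} [Group G] [Finite G] {N K X : Subgroup G} {p q : ℕ}

theorem mem_center_iff_ctr (x : N) : x ∈ center N ↔ (x : G) ∈ ctr N := by
  rw [mem_center_iff]
  constructor
  · exact fun h => mem_inf.mpr ⟨x.2, mem_centralizer_iff.mpr fun g hg => congrArg Subtype.val (h ⟨g, hg⟩)⟩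
  · exact fun h g => Subtype.ext (commute_ctr g.2 h).eq.symm

/-- The image in the central quotient of `N`. -/
def bar (N H : Subgroup G) : Subgroup (N ⧸ center N) := (H.subgroupOf N).map (QuotientGroup.mk' (center N))

theorem mk_mem_bar {H : Subgroup G} (hH : ctr N ≤ H) (x : N) :
    (QuotientGroup.mk' (center N) x) ∈ bar N H ↔ (x : G) ∈ H := by
  constructor
  · rintro ⟨y, hy, hyx⟩
    have h1 : (y⁻¹ * x : N) ∈ center N := QuotientGroup.eq.mp hyx
    have := H.mul_mem hy (hH ((mem_center_iff_ctr _).mp h1))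
    rw [Subgroup.coe_mul, Subgroup.coe_inv] at this
    simpa using this
  · exact fun h => ⟨x, h, rfl⟩

theorem frobenius_of_config (h : Config N K X p q) :
    (bar N K).Normal ∧ Cfsg.IsElementaryAbelian p (bar N K) ∧ Cfsg.IsFrobeniusComplement (bar N X) ∧
      Nat.card (bar N X) = q ∧ (bar N K : Set (N ⧸ center N)) = Cfsg.frobeniusKernel (bar N X) ∧
      (bar N K).index = q ∧ (∃ a, Nat.card (bar N K) = p ^ a) ∧ ¬ IsMulCommutative (N ⧸ center N) := by
  classical
  haveI : Fact p.Prime := ⟨h.hp⟩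
  haveI : Fact q.Prime := ⟨h.hq⟩
  set π := QuotientGroup.mk' (center N) with hπdef
  have hπ : Function.Surjective π := QuotientGroup.mk'_surjective _
  haveI := h.K_normal
  haveI hKb : (bar N K).Normal := Subgroup.Normal.map inferInstance _ hπ
  have hK : ∀ x : N, π x ∈ bar N K ↔ (x : G) ∈ K := mk_mem_bar h.ctr_le_K
  have hX : ∀ x : N, π x ∈ bar N X ↔ (x : G) ∈ X := mk_mem_bar h.ctr_le_X
  have h1 : ∀ x : N, π x = 1 ↔ (x : G) ∈ ctr N := fun x =>
    (QuotientGroup.eq_one_iff x).trans (mem_center_iff_ctr x)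
  have helem : Cfsg.IsElementaryAbelian p (bar N K) := by
    refine ⟨⟨⟨?_⟩⟩, ?_⟩
    · rintro ⟨_, a, ha, rfl⟩ ⟨_, b, hb, rfl⟩
      refine Subtype.ext ?_
      change π a * π b = π b * π a
      rw [← map_mul, ← map_mul]
      congr 1
      exact Subtype.ext (h.K_comm _ ha _ hb).eq
    · rintro _ ⟨a, ha, rfl⟩
      rw [← map_pow, h1, Subgroup.coe_pow]
      exact h.K_pow _ ha
  have hfix : ∀ a ∈ bar N K, ∀ g : N ⧸ center N, g ∉ bar N K → a * g = g * a → a = 1 := by
    rintro _ ⟨a, ha, rfl⟩ g hg hag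
    obtain ⟨w, rfl⟩ := hπ g
    refine (h1 a).mpr (h.fpf w w.2 (fun hw => hg ((hK w).mpr hw)) a ha ?_)
    have := (h1 (a * w * a⁻¹ * w⁻¹)).mp (by rw [map_mul, map_mul, map_mul, map_inv, map_inv, (show π a * π w = π w * π a from hag)]; group)
    simpa using this
  have hinf : ∀ z, z ∈ bar N K → z ∈ bar N X → z = 1 := by
    rintro _ ⟨a, ha, rfl⟩ hb
    exact (h1 a).mpr (h.inf_le (mem_inf.mpr ⟨ha, (hX a).mp hb⟩))
  have hmul : ∀ g : N ⧸ center N, ∃ k ∈ bar N K, ∃ x ∈ bar N X, g = k * x := by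
    intro g
    obtain ⟨w, rfl⟩ := hπ g
    obtain ⟨k, hk, x, hx, hw⟩ := h.mul_eq w w.2
    refine ⟨π ⟨k, h.K_le hk⟩, (hK _).mpr hk, π ⟨x, h.X_le hx⟩, (hX _).mpr hx, ?_⟩
    rw [← map_mul]
    exact congrArg π (Subtype.ext hw)
  have hcard : Nat.card (bar N X) = q := by
    rw [← h.X_card, bar, ← hπdef]
    have h2 : (π.subgroupMap (X.subgroupOf N)).ker = ((ctr N).subgroupOf N).subgroupOf (X.subgroupOf N) := by
      ext v
      rw [MonoidHom.mem_ker, mem_subgroupOf, mem_subgroupOf, Subtype.ext_iff]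
      exact h1 _
    rw [← Nat.card_congr (QuotientGroup.quotientKerEquivOfSurjective _ (π.subgroupMap_surjective _)).toEquiv,
      ← Subgroup.index_eq_card, h2]
    change ((ctr N).subgroupOf N).relIndex (X.subgroupOf N) = _
    exact Subgroup.relIndex_subgroupOf h.X_le
  have hcompl : (bar N K).IsComplement' (bar N X) := by
    refine isComplement'_of_disjoint_and_mul_eq_univ ?_ (Set.eq_univ_of_forall fun g => ?_)
    · rw [disjoint_iff, eq_bot_iff]
      exact fun z hz => mem_bot.mpr (hinf z hz.1 hz.2)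
    · obtain ⟨k, hk, x, hx, rfl⟩ := hmul g
      exact Set.mul_mem_mul hk hx
  have hidx : (bar N K).index = q := by rw [hcompl.symm.index_eq_card, hcard]
  have hKne : bar N K ≠ ⊥ := fun hb => h.K_ne fun k hk => by
    have := (hK ⟨k, h.K_le hk⟩).mpr hk
    rw [hb, mem_bot] at this
    exact (h1 ⟨k, h.K_le hk⟩).mp this
  obtain ⟨x₀, hx₀, hx₀1⟩ : ∃ x ∈ bar N X, x ≠ 1 := by
    by_contra hh
    push Not at hh
    have : bar N X = ⊥ := (eq_bot_iff).mpr fun z hz => mem_bot.mpr (hh z hz)
    rw [this, Subgroup.card_bot] at hcard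
    exact h.hq.ne_one hcard.symm
  refine ⟨hKb, helem, ⟨fun hb => hx₀1 (mem_bot.mp (hb ▸ hx₀)), fun ht => ?_, fun g hg => ?_⟩, hcard, ?_, hidx, ?_, ?_⟩
  · exact hKne (eq_bot_iff.mpr fun z hz => mem_bot.mpr (hinf z hz (ht ▸ mem_top z)))
  · rw [eq_bot_iff]
    intro z hz
    obtain ⟨hz1, hz2⟩ := mem_inf.mp hz
    rw [mem_bot]
    by_contra hzne
    obtain ⟨k, hk, x, hx, rfl⟩ := hmul g
    rw [Subgroup.mem_pointwise_smul_iff_inv_smul_mem] at hz2
    simp only [MulAut.smul_def, MulAut.conj_inv_apply] at hz2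
    have h4 : k⁻¹ * z * k ∈ bar N X := by
      have := mul_mem (mul_mem hx hz2) (inv_mem hx)
      convert this using 1
      group
    have h5 : z⁻¹ * (k⁻¹ * z * k) = 1 := by
      refine hinf _ ?_ (mul_mem (inv_mem hz1) h4)
      have := mul_mem (hKb.conj_mem _ (inv_mem hk) z⁻¹) hk
      convert this using 1
      group
    have hzK : z ∉ bar N K := fun hh => hzne (hinf z hh hz1)
    refine hg ?_
    have h6 : k = 1 := hfix k hk z hzK (by
      rw [inv_mul_eq_one] at h5
      calc k * z = k * (k⁻¹ * z * k) := by rw [← h5]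
        _ = z * k := by group)
    rw [h6, one_mul]; exact hx
  · ext g
    constructor
    · intro hg
      by_cases hg1 : g = 1
      · exact Or.inl hg1
      · refine Or.inr fun a ha => hg1 ?_
        rw [Subgroup.mem_pointwise_smul_iff_inv_smul_mem] at ha
        simp only [MulAut.smul_def, MulAut.conj_inv_apply] at ha
        have h2 := hinf _ (by simpa using hKb.conj_mem g hg a⁻¹) ha
        have := congrArg (fun t => a * t * a⁻¹) h2
        simpa [mul_assoc] using this
    · rintro (rfl | hg)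
      · exact one_mem _
      by_contra hgK
      obtain ⟨k, hk, x, hx, hgx⟩ := hmul g
      have hxK : x ∉ bar N K := fun hh => hgK (hgx ▸ mul_mem hk hh)
      let f : bar N K → bar N K := fun a => ⟨a * x * (a : N ⧸ center N)⁻¹ * x⁻¹, by
        have := mul_mem a.2 (hKb.conj_mem _ (inv_mem a.2) x)
        convert this using 1
        group⟩
      have hf : Function.Injective f := by
        intro a b hab
        have hab' : (a : N ⧸ center N) * x * (a : N ⧸ center N)⁻¹ = b * x * (b : N ⧸ center N)⁻¹ :=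
          mul_right_cancel (congrArg Subtype.val hab)
        have := hfix ((b : N ⧸ center N)⁻¹ * a) (mul_mem (inv_mem b.2) a.2) x hxK (by
          calc (b : N ⧸ center N)⁻¹ * a * x = (b : N ⧸ center N)⁻¹ * (a * x * (a : N ⧸ center N)⁻¹) * a := by group
            _ = (b : N ⧸ center N)⁻¹ * (b * x * (b : N ⧸ center N)⁻¹) * a := by rw [hab']
            _ = _ := by group)
        exact Subtype.ext (inv_mul_eq_one.mp this).symm
      obtain ⟨a, ha⟩ := (Finite.injective_iff_surjective.mp hf) ⟨k, hk⟩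
      refine hg (a : N ⧸ center N) ?_
      rw [Subgroup.mem_pointwise_smul_iff_inv_smul_mem]
      simp only [MulAut.smul_def, MulAut.conj_inv_apply]
      have ha' : (a : N ⧸ center N) * x * (a : N ⧸ center N)⁻¹ * x⁻¹ = k := congrArg Subtype.val ha
      rw [hgx, ← ha']
      convert hx using 1
      group
  · exact (IsPGroup.exists_card_eq fun a => ⟨1, Subtype.ext (by rw [pow_one]; exact helem.2 _ a.2)⟩)
  · intro hab
    refine hKne (eq_bot_iff.mpr fun a ha => mem_bot.mpr (hfix a ha x₀ (fun hh => hx₀1 (hinf _ hh hx₀)) ?_))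
    exact hab.is_comm.comm a x₀

end CfsgLib.MaxCentralizer

namespace CfsgLib.MaxCentralizer

open Subgroup

universe v

variable {G : Type v} [Group G] [Finite G] {N : Subgroup G}

theorem elementary_quotient {p : ℕ} (h : ∀ a ∈ N, a ^ p ∈ ctr N ∧ ∀ b ∈ N, a * b * a⁻¹ * b⁻¹ ∈ ctr N) :
    Cfsg.IsElementaryAbelian p (⊤ : Subgroup (N ⧸ center N)) := by
  refine ⟨⟨⟨?_⟩⟩, ?_⟩
  · rintro ⟨x, -⟩ ⟨y, -⟩
    obtain ⟨a, rfl⟩ := QuotientGroup.mk'_surjective (center N) x
    obtain ⟨b, rfl⟩ := QuotientGroup.mk'_surjective (center N) y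
    refine Subtype.ext ?_
    change QuotientGroup.mk' (center N) a * QuotientGroup.mk' (center N) b = _ * _
    have h1 : (a * b * a⁻¹ * b⁻¹ : N) ∈ center N := by
      rw [mem_center_iff_ctr]; simpa using (h a a.2).2 b b.2
    have h2 : QuotientGroup.mk' (center N) (a * b * a⁻¹ * b⁻¹) = 1 := (QuotientGroup.eq_one_iff _).mpr h1
    rw [map_mul, map_mul, map_mul, map_inv, map_inv, mul_inv_eq_one, mul_inv_eq_iff_eq_mul] at h2
    exact h2
  · intro x _
    obtain ⟨a, rfl⟩ := QuotientGroup.mk'_surjective (center N) x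
    rw [← map_pow]
    refine (QuotientGroup.eq_one_iff _).mpr ?_
    rw [mem_center_iff_ctr, Subgroup.coe_pow]
    exact (h a a.2).1

end CfsgLib.MaxCentralizer
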